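import Groth.Agent.Refuted.K826.Ring
import Groth.Agent.Divis.BlowChart2

/-!
# The morphism `X'' = Bl_J Y ⟶ X = Bl_I Y` of the two-chart counterexample

If `I ≤ J²` and `J` is generated by elements whose squares lie in `I`, then `I` becomes effective Cartier wherever
`J` does. For `I = (x², xy, y², η)` and `J = (x, y, e₁, e₂)` the universal property of `X` gives `X'' ⟶ X`.
-/

set_option autoImplicit false
universe u

open CategoryTheory AlgebraicGeometry BlowUp

namespace Groth.Agent.Refuted.K332.Nu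

open Groth.Agent.Divis.BlowChart Groth.Agent.Divis.BlowChart2 Groth.Agent.Refuted.K826

theorem isEffCartier_of_sq {A : Type u} [CommRing A] {I J : Ideal A} (hIJ : I ≤ J ^ 2) {s : Set A}
    (hs : J = Ideal.span s) (h : ∀ a ∈ s, a ^ 2 ∈ I) {X' : Scheme.{u}} {b : X' ⟶ Spec (CommRingCat.of A)}
    (hE : IsEffCartierIdeal ((idl J).comap b)) : IsEffCartierIdeal ((idl I).comap b) := by
  intro x'
  obtain ⟨a, ha, hxa⟩ := exists_mem_chartLocus_of_span J b hE hs x'
  obtain ⟨W, hxW, hW⟩ := (mem_chartLocus_iff J b a x').1 hxa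
  have hreg := mem_nonZeroDivisors_of_ideal_eq_span hE W _ hW
  refine ⟨W, hxW, resT X' W.1 (glob b a) ^ 2, pow_mem hreg 2, ?_⟩
  rw [comap_idl_ideal] at hW ⊢
  apply le_antisymm
  · refine (Ideal.map_mono hIJ).trans ?_
    rw [Ideal.map_pow, hW, Ideal.span_singleton_pow]
  · rw [Ideal.span_singleton_le_iff_mem]
    have h1 := Ideal.mem_map_of_mem ((resT X' W.1).comp (glob b)) (h a ha)
    rwa [map_pow] at h1

variable (k : Type u) [Field k]

theorem cI_le : cI k ≤ cJ k ^ 2 := by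
  have h0 : (x₀ : T k) ∈ cJ k := Ideal.subset_span (by simp)
  have h1 : (x₁ : T k) ∈ cJ k := Ideal.subset_span (by simp)
  have h2 : (e₁ : T k) ∈ cJ k := Ideal.subset_span (by simp)
  have h3 : (e₂ : T k) ∈ cJ k := Ideal.subset_span (by simp)
  rw [cI, Ideal.span_le]
  rintro a (rfl | rfl | rfl | rfl)
  · exact Ideal.pow_mem_pow h0 2
  · rw [pow_two]
    exact Ideal.mul_mem_mul h0 h1
  · exact Ideal.pow_mem_pow h1 2
  · have he : (eta : T k) = x₀ * e₁ + x₁ * e₂ := by
      refine TrivSqZeroExt.ext ?_ (Prod.ext ?_ ?_) <;> simp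
    rw [he, pow_two]
    exact add_mem (Ideal.mul_mem_mul h0 h2) (Ideal.mul_mem_mul h1 h3)

theorem sq_mem_cI (a : T k) (ha : a ∈ ({x₀, x₁, e₁, e₂} : Set (T k))) : a ^ 2 ∈ cI k := by
  rcases ha with rfl | rfl | rfl | rfl
  · exact Ideal.subset_span (by simp)
  · exact Ideal.subset_span (by simp)
  · rw [pow_two, TrivSqZeroExt.inr_mul_inr]
    exact zero_mem _
  · rw [pow_two, TrivSqZeroExt.inr_mul_inr]
    exact zero_mem _

/-- The centre `I` of `X` becomes effective Cartier on `X'' = Bl_J Y`. -/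
theorem isEffCartier {X'' : Scheme.{u}} {b'' : X'' ⟶ Spec (CommRingCat.of (T k))}
    (hb'' : IsBlowUp b'' (idl (cJ k))) : IsEffCartierIdeal ((idl (cI k)).comap b'') :=
  isEffCartier_of_sq (cI_le k) rfl (sq_mem_cI k) hb''.1

/-- Node N: the morphism `X'' ⟶ X` over `Y`. -/
theorem exists_nu {X X'' : Scheme.{u}} {b : X ⟶ Spec (CommRingCat.of (T k))} (hb : IsBlowUp b (idl (cI k)))
    {b'' : X'' ⟶ Spec (CommRingCat.of (T k))} (hb'' : IsBlowUp b'' (idl (cJ k))) : ∃ ν : X'' ⟶ X, ν ≫ b = b'' :=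
  (hb.2 _ b'' (isEffCartier k hb'')).exists

end Groth.Agent.Refuted.K332.Nu
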